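import Groth.Agent.DevEtale.Loci
import Mathlib.RingTheory.IsTensorProduct
import Mathlib.RingTheory.Flat.Stability
import Mathlib.RingTheory.LocalRing.ResidueField.Basic
import Mathlib.RingTheory.Ideal.GoingUp

/-! Helpers for flatness above the closed points under a change of the ring upstairs. -/

universe u

set_option autoImplicit false
set_option backward.isDefEq.respectTransparency false
set_option backward.isDefEq.respectTransparency.types false

open TensorProduct

namespace Groth.Agent.FlatClosed

theorem exists_pushout_map (A B C A' B' C' : Type u) [CommRing A] [CommRing B] [CommRing C]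
    [CommRing A'] [CommRing B'] [CommRing C'] [Algebra A B] [Algebra B C] [Algebra A C]
    [IsScalarTower A B C] [Algebra A A'] [Algebra A B'] [Algebra B B'] [Algebra A' B']
    [IsScalarTower A B B'] [IsScalarTower A A' B'] [Algebra.IsPushout A B A' B'] [Algebra A C']
    [Algebra C C'] [Algebra A' C'] [IsScalarTower A C C'] [IsScalarTower A A' C'] :
    ∃ φ : B' →+* C', φ.comp (algebraMap B B') = (algebraMap C C').comp (algebraMap B C) ∧
      φ.comp (algebraMap A' B') = algebraMap A' C' := by
  let f : B →ₐ[A] C' := (IsScalarTower.toAlgHom A C C').comp (IsScalarTower.toAlgHom A B C)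
  let g : A' →ₐ[A] C' := IsScalarTower.toAlgHom A A' C'
  let d : B' →ₐ[A] C' := Algebra.pushoutDesc B' f g fun _ _ => mul_comm _ _
  exact ⟨d.toRingHom, RingHom.ext fun x => Algebra.pushoutDesc_left B' f g (fun _ _ => mul_comm _ _) x,
    RingHom.ext fun x => Algebra.pushoutDesc_right B' f g (fun _ _ => mul_comm _ _) x⟩

theorem isPushout_cancel (A B C A' B' C' : Type u) [CommRing A] [CommRing B] [CommRing C]
    [CommRing A'] [CommRing B'] [CommRing C'] [Algebra A B] [Algebra B C] [Algebra A C]
    [IsScalarTower A B C] [Algebra A A'] [Algebra A B'] [Algebra B B'] [Algebra A' B']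
    [IsScalarTower A B B'] [IsScalarTower A A' B'] [Algebra.IsPushout A B A' B'] [Algebra A C']
    [Algebra C C'] [Algebra A' C'] [IsScalarTower A C C'] [IsScalarTower A A' C']
    [Algebra.IsPushout A C A' C']
    [Algebra B' C'] [Algebra B C'] [IsScalarTower B C C'] [IsScalarTower B B' C']
    [IsScalarTower A' B' C'] : Algebra.IsPushout B C B' C' := by
  haveI : IsScalarTower A B' C' := IsScalarTower.of_algebraMap_eq fun a => by
    rw [IsScalarTower.algebraMap_apply A A' B', ← IsScalarTower.algebraMap_apply A' B' C',
      ← IsScalarTower.algebraMap_apply A A' C']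
  exact (Algebra.IsPushout.comp_iff A B A' B').1 inferInstance

/-- Flatness of a localization is flatness at the primes missing the multiplicative set. -/
theorem flat_localized_iff (R : Type u) {S N : Type u} [CommRing R] [CommRing S] [Algebra R S]
    [AddCommGroup N] [Module S N] [Module R N] [IsScalarTower R S N] (W : Submonoid S) :
    Module.Flat R (LocalizedModule W N) ↔
      ∀ (P : Ideal S) [P.IsPrime], Disjoint (W : Set S) P → FlatCA.FlatAt R P N := by
  let T := Localization W
  let M := LocalizedModule W N
  haveI : IsScalarTower R T M := IsScalarTower.to₁₃₄ R S T M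
  haveI : Module.Flat S T := IsLocalization.flat T W
  have hbc : IsBaseChange T (LocalizedModule.mkLinearMap W N) :=
    (isLocalizedModule_iff_isBaseChange W T _).1 inferInstance
  constructor
  · intro hfl P hP hdisj
    let Q : Ideal T := P.map (algebraMap S T)
    haveI : Q.IsPrime := IsLocalization.isPrime_of_isPrime_disjoint _ T P hP hdisj
    haveI : Q.LiesOver P := ⟨(IsLocalization.comap_map_of_isPrime_disjoint _ T hP hdisj).symm⟩
    rw [DevEtale.flatAt_iff_of_flat R (LocalizedModule.mkLinearMap W N) hbc P Q]
    haveI : IsScalarTower R (Localization.AtPrime Q) (LocalizedModule Q.primeCompl M) :=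
      IsScalarTower.to₁₃₄ R T (Localization.AtPrime Q) _
    haveI : Module.Flat T (Localization.AtPrime Q) := IsLocalization.flat _ Q.primeCompl
    exact DevEtale.flat_of_isBaseChange (B := T) (B' := Localization.AtPrime Q)
      (LocalizedModule.mkLinearMap Q.primeCompl M)
      ((isLocalizedModule_iff_isBaseChange Q.primeCompl _ _).1 inferInstance)
  · intro H
    refine Module.flat_of_isLocalized_maximal T M (fun Q _ => LocalizedModule Q.primeCompl M)
      (fun Q _ => LocalizedModule.mkLinearMap Q.primeCompl M) (fun Q _ => ?_)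
    let P := Q.comap (algebraMap S T)
    haveI : Q.LiesOver P := ⟨rfl⟩
    have hdisj : Disjoint (W : Set S) P := Set.disjoint_left.2 fun w hw h =>
      (inferInstance : Q.IsPrime).ne_top (Ideal.eq_top_of_isUnit_mem Q h (IsLocalization.map_units T ⟨w, hw⟩))
    exact (DevEtale.flatAt_iff_of_flat R (LocalizedModule.mkLinearMap W N) hbc P Q).1 (H P hdisj)

theorem flatAt_mono (R : Type u) {S N : Type u} [CommRing R] [CommRing S] [Algebra R S]
    [AddCommGroup N] [Module S N] [Module R N] [IsScalarTower R S N] {P Q : Ideal S} [P.IsPrime]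
    [Q.IsPrime] (h : P ≤ Q) (hQ : FlatCA.FlatAt R Q N) : FlatCA.FlatAt R P N :=
  (flat_localized_iff R Q.primeCompl).1 hQ P
    (Set.disjoint_left.2 fun _ hx hxP => hx (h hxP))

/-- Flatness at a prime can be tested on an algebra that is integral over the ring. -/
theorem flatAt_restrict_iff (R : Type u) {D C G : Type u} [CommRing R] [CommRing D] [CommRing C]
    [Algebra R D] [Algebra D C] [Algebra R C] [IsScalarTower R D C] [Algebra.IsIntegral D C]
    [AddCommGroup G] [Module C G] [Module D G] [IsScalarTower D C G] [Module R G]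
    [IsScalarTower R C G] [IsScalarTower R D G] (q : Ideal D) [q.IsPrime] :
    FlatCA.FlatAt R q G ↔
      ∀ (Q : Ideal C) [Q.IsPrime], Q.comap (algebraMap D C) = q → FlatCA.FlatAt R Q G := by
  have key : FlatCA.FlatAt R q G ↔
      Module.Flat R (LocalizedModule (q.primeCompl.map (algebraMap D C)) G) :=
    DevEtale.flat_localized_iff_restrict R q.primeCompl _
      (fun d hd => Submonoid.mem_map_of_mem _ hd)
      (fun c ⟨d, hd, e⟩ => ⟨1, d, hd, by rw [mul_one]; exact e.symm⟩)
  rw [key, flat_localized_iff]
  constructor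
  · intro H Q _ hQ
    refine H Q (Set.disjoint_left.2 ?_)
    rintro _ ⟨d, hd, rfl⟩ h
    exact hd (hQ ▸ h)
  · intro H P _ hP
    have hle : P.comap (algebraMap D C) ≤ q := fun d hd => by
      by_contra h
      exact Set.disjoint_left.1 hP (Submonoid.mem_map_of_mem _ h) hd
    obtain ⟨Q, hPQ, hQ, hQq⟩ := Ideal.exists_ideal_over_prime_of_isIntegral q P hle
    exact flatAt_mono R hPQ (H Q hQq)

theorem flatAt_equiv (R : Type u) {S N N' : Type u} [CommRing R] [CommRing S] [Algebra R S]
    [AddCommGroup N] [Module S N] [Module R N] [IsScalarTower R S N]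
    [AddCommGroup N'] [Module S N'] [Module R N'] [IsScalarTower R S N']
    (e : N ≃ₗ[S] N') (q : Ideal S) [q.IsPrime] :
    FlatCA.FlatAt R q N ↔ FlatCA.FlatAt R q N' := by
  haveI : IsLocalizedModule q.primeCompl
      ((LocalizedModule.mkLinearMap q.primeCompl N').comp e.toLinearMap) :=
    IsLocalizedModule.of_linearEquiv_right q.primeCompl _ e
  exact Module.Flat.equiv_iff ((IsLocalizedModule.linearEquiv q.primeCompl
    (LocalizedModule.mkLinearMap q.primeCompl N)
    ((LocalizedModule.mkLinearMap q.primeCompl N').comp e.toLinearMap)).restrictScalars R)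

theorem isBaseChange_restrict (B B' C C' N N' : Type u) [CommRing B] [CommRing B'] [CommRing C]
    [CommRing C'] [Algebra B B'] [Algebra B C] [Algebra C C'] [Algebra B' C'] [Algebra B C']
    [IsScalarTower B C C'] [IsScalarTower B B' C'] [Algebra.IsPushout B B' C C']
    [AddCommGroup N] [Module B N] [Module C N] [IsScalarTower B C N]
    [AddCommGroup N'] [Module C' N'] [Module C N'] [IsScalarTower C C' N']
    [Module B' N'] [IsScalarTower B' C' N'] [Module B N'] [IsScalarTower B B' N'] [IsScalarTower B C N']
    (f : N →ₗ[C] N') (hf : IsBaseChange C' f) : IsBaseChange B' (f.restrictScalars B) := by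
  refine IsBaseChange.of_equiv
    ((Algebra.IsPushout.cancelBaseChange B B' C C' N).symm ≪≫ₗ hf.equiv.restrictScalars B') fun n => ?_
  simp [hf.equiv_tmul]

theorem exists_prime_over (B B' C C' : Type u) [CommRing B] [IsLocalRing B] [CommRing B']
    [CommRing C] [IsLocalRing C] [CommRing C'] [Algebra B B'] [Algebra B C]
    [IsLocalHom (algebraMap B C)] [Algebra C C'] [Algebra B' C'] [Algebra B C']
    [IsScalarTower B C C'] [IsScalarTower B B' C'] [Algebra.IsPushout B C B' C']
    (q : Ideal B') [q.IsPrime]
    (hq : (IsLocalRing.maximalIdeal B).map (algebraMap B B') ≤ q) :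
    ∃ q' : Ideal C', q'.IsPrime ∧ q'.comap (algebraMap B' C') = q ∧
      (IsLocalRing.maximalIdeal C).map (algebraMap C C') ≤ q' := by
  let K := q.ResidueField
  let b : B →+* K := (algebraMap B' K).comp (algebraMap B B')
  haveI : IsLocalHom b := ⟨fun x hx => by
    by_contra h
    apply hx.ne_zero
    show algebraMap B' K (algebraMap B B' x) = 0
    rw [Ideal.algebraMap_residueField_eq_zero]
    exact hq (Ideal.mem_map_of_mem _ h)⟩
  let kB := IsLocalRing.ResidueField B
  let kC := IsLocalRing.ResidueField C
  letI : Algebra kB K := (IsLocalRing.ResidueField.lift b).toAlgebra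
  haveI : Nontrivial (kC ⊗[kB] K) := inferInstance
  letI : Algebra B (kC ⊗[kB] K) := ((algebraMap kB (kC ⊗[kB] K)).comp (IsLocalRing.residue B)).toAlgebra
  let f : C →ₐ[B] kC ⊗[kB] K :=
    { (Algebra.TensorProduct.includeLeftRingHom (R := kB) (A := kC) (B := K)).comp (IsLocalRing.residue C) with
      commutes' := fun x => rfl }
  let g : B' →ₐ[B] kC ⊗[kB] K :=
    { (Algebra.TensorProduct.includeRight (R := kB) (A := kC) (B := K)).toRingHom.comp (algebraMap B' K) with
      commutes' := fun x =>
        (AlgHom.commutes (Algebra.TensorProduct.includeRight (R := kB) (A := kC) (B := K))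
          (IsLocalRing.residue B x)) }
  let d := Algebra.pushoutDesc C' f g fun _ _ => mul_comm _ _
  obtain ⟨P, hP⟩ := Ideal.exists_maximal (kC ⊗[kB] K)
  refine ⟨P.comap d.toRingHom, inferInstance, ?_, ?_⟩
  · ext x
    rw [Ideal.mem_comap, Ideal.mem_comap]
    show d (algebraMap B' C' x) ∈ P ↔ _
    rw [Algebra.pushoutDesc_right, ← Ideal.algebraMap_residueField_eq_zero (I := q)]
    show algebraMap B' K x ∈ P.comap (Algebra.TensorProduct.includeRight (R := kB) (A := kC) (B := K)).toRingHom ↔ _
    rw [(Ideal.eq_bot_or_top (P.comap _)).resolve_right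
      (Ideal.IsPrime.comap _).ne_top, Ideal.mem_bot]
  · rw [Ideal.map_le_iff_le_comap]
    intro c hc
    rw [Ideal.mem_comap, Ideal.mem_comap]
    show d (algebraMap C C' c) ∈ P
    rw [Algebra.pushoutDesc_left]
    show Algebra.TensorProduct.includeLeftRingHom (IsLocalRing.residue C c) ∈ P
    rw [(IsLocalRing.residue_eq_zero_iff c).2 hc, map_zero]
    exact P.zero_mem

end Groth.Agent.FlatClosed
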